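import Cfsg.Agent.Lib.KnownB.U4Mult.Main
import Cfsg.Agent.Lib.KnownB.McLMult.Data

/-!
The triple covers of `SU₄(3)` over the concrete field, generated by nine elements.
-/

set_option autoImplicit false
set_option maxRecDepth 100000
set_option synthInstance.maxSize 4000
set_option maxHeartbeats 1000000
set_option Elab.async false

namespace CfsgLib.KnownB.McLMult

open Subgroup Matrix
open scoped commutatorElement
open CfsgLib.KnownB.U4Mult
open CfsgLib.KnownB.Mult (PtAct)
open CfsgLib.Spor.McLUnitary (K9 ofCode toK toK_injective iK)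

attribute [local instance] fintypeK9

/-- the identification of the concrete field with itself -/
abbrev φ0 : K9 ≃+* K9 := RingEquiv.refl K9

/-- the cover -/
abbrev CV : Type := Cv (F := K9) φ0

/-- a generator -/
noncomputable def gen (k : ℕ) : CV :=
  if h : k < 9 then (exists_gen (F := K9) card_K9 φ0 k h).choose else 1

theorem rep_gen {k : ℕ} (hk : k < 9) : U4Mult.Rep φ0 (gen k) (genC.getD k one4) := by
  rw [gen, dif_pos hk]
  exact (exists_gen (F := K9) card_K9 φ0 k hk).choose_spec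

/-- the product of a word -/
noncomputable def cw (w : List ℕ) : CV := (w.map gen).prod

theorem rep_cw : ∀ {w : List ℕ}, wordOK w = true → U4Mult.Rep φ0 (cw w) (evC4 w)
  | [], _ => rep_one
  | k :: w, h => by
    simp only [wordOK, List.all_cons, Bool.and_eq_true, Nat.blt_eq] at h
    exact (rep_gen h.1).mul (rep_cw h.2)

theorem sW_ok : wordOK sW = true := scalar_checks.1

/-- the scalar of order four -/
noncomputable def sEl : CV := cw sW

theorem sEl_pow_four : sEl ^ 4 = 1 :=
  (eq4_iff ((rep_cw sW_ok).pow 4) rep_one).1 scalar_checks.2.1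

theorem toK_sEl : toK φ0 (proj φ0 sEl) = iK • 1 :=
  ((rep_cw sW_ok).1.trans (eqN_iff.1 scalar_checks.2.2)).trans sC_scalar

/-- the central element with the given exponents -/
noncomputable def zEl (z : ℕ × ℕ × ℕ) : CV :=
  sEl ^ z.1 * kz φ0 (Multiplicative.ofAdd ((z.2.1 : ZMod 3), (z.2.2 : ZMod 3)))

/-- its code -/
noncomputable def zC (z : ℕ × ℕ × ℕ) : C4 :=
  mulC4 (powC4 (evC4 sW) z.1) ⟨oneN, ⟨G2Mult.oneM, z.2.1 % 3⟩, ⟨G2Mult.oneM, z.2.2 % 3⟩⟩

theorem rep_zEl (z : ℕ × ℕ × ℕ) : U4Mult.Rep φ0 (zEl z) (zC z) := by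
  refine ((rep_cw sW_ok).pow z.1).mul ?_
  have h := rep_kz (F := K9) φ0 (z.2.1 : ZMod 3) (z.2.2 : ZMod 3)
  rwa [ZMod.val_natCast, ZMod.val_natCast] at h

/-- everything is generated by the nine elements -/
theorem closure_gen : closure (Set.range gen) = (⊤ : Subgroup CV) := by
  classical
  let H : Subgroup CV := closure (Set.range gen)
  let R : Subgroup (Cfsg.SU 4 K9 3) := H.map (proj φ0)
  have hgen : ∀ k, gen k ∈ H := fun k => subset_closure ⟨k, rfl⟩
  have hex : ∀ w, wordOK w = true → ∃ g ∈ R, ∀ v, toK φ0 g *ᵥ vecOf v = vecOf (appW w v) := by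
    intro w
    induction w with
    | nil => exact fun _ => ⟨1, one_mem _, fun v => by rw [map_one, one_mulVec]; rfl⟩
    | cons k w ih =>
      intro h
      simp only [wordOK, List.all_cons, Bool.and_eq_true, Nat.blt_eq] at h
      obtain ⟨g, hg, hgv⟩ := ih h.2
      refine ⟨proj φ0 (gen k) * g, mul_mem (mem_map_of_mem _ (hgen k)) hg, fun v => ?_⟩
      rw [map_mul, ← mulVec_mulVec, hgv, show toK φ0 (proj φ0 (gen k)) = _ from (rep_gen h.1).1,
        ← vecOf_appN]
      rfl
  let wEl : List ℕ → Cfsg.SU 4 K9 3 := fun w => if h : wordOK w = true then (hex w h).choose else 1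
  have hok : ∀ prev l, levOK prev l = true →
      (∀ w ∈ l.2, wEl w ∈ R ∧ ∀ q ∈ prev, (vecAct φ0).act (wEl w) (vecOf q) = vecOf q) ∧
      (l.2.map fun w => (vecAct φ0).act (wEl w) (vecOf l.1)).Nodup := by
    intro prev l h
    simp only [levOK, Bool.and_eq_true, List.all_eq_true] at h
    obtain ⟨h1, h2⟩ := h
    have hw : ∀ w ∈ l.2, wEl w ∈ R ∧ ∀ v, toK φ0 (wEl w) *ᵥ vecOf v = vecOf (appW w v) := by
      intro w hw'
      simp only [wEl, dif_pos (h1 w hw').1]
      exact (hex w (h1 w hw').1).choose_spec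
    refine ⟨fun w hw' => ⟨(hw w hw').1, fun q hq => ((hw w hw').2 q).trans
      (eqV4_iff.1 ((h1 w hw').2 q hq))⟩, ?_⟩
    have := nodup_of_incB h2
    rw [List.map_map] at this
    refine (List.map_congr_left fun w hw' => ?_) ▸ this
    exact ((hw w hw').2 _).symm
  obtain ⟨a0, b0⟩ := hok _ _ levU0_ok
  obtain ⟨a1, b1⟩ := hok _ _ levU1_ok
  obtain ⟨a2, b2⟩ := hok _ _ levU2_ok
  obtain ⟨a3, b3⟩ := hok _ _ levU3_ok
  have key : 13063680 ≤ Nat.card R := by
    refine le_trans (le_of_eq ?_) ((vecAct φ0).prod_le_card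
      [(vecOf levU0.1, levU0.2.map wEl), (vecOf levU1.1, levU1.2.map wEl), (vecOf levU2.1, levU2.2.map wEl),
        (vecOf levU3.1, levU3.2.map wEl)] R ?_ ?_ ?_)
    · rw [← levU_prod]
      simp only [List.map_cons, List.map_nil, List.prod_cons, List.prod_nil, List.length_map]
    · intro l hl t ht
      simp only [List.mem_cons, List.not_mem_nil, or_false] at hl
      rcases hl with rfl | rfl | rfl | rfl <;> obtain ⟨w, hw', rfl⟩ := List.mem_map.1 ht
      exacts [(a0 w hw').1, (a1 w hw').1, (a2 w hw').1, (a3 w hw').1]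
    · simp only [List.pairwise_cons, List.mem_cons, List.not_mem_nil, or_false, forall_eq_or_imp, forall_eq,
        List.Pairwise.nil, List.forall_mem_map, and_true, false_imp_iff, implies_true]
      exact ⟨⟨fun w h => (a1 w h).2 _ (by simp), fun w h => (a2 w h).2 _ (by simp),
        fun w h => (a3 w h).2 _ (by simp)⟩, ⟨fun w h => (a2 w h).2 _ (by simp),
        fun w h => (a3 w h).2 _ (by simp)⟩, fun w h => (a3 w h).2 _ (by simp)⟩
    · intro l hl
      simp only [List.mem_cons, List.not_mem_nil, or_false] at hl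
      rcases hl with rfl | rfl | rfl | rfl <;> rw [List.map_map]
      exacts [b0, b1, b2, b3]
  have htop : R = ⊤ := Subgroup.eq_top_of_le_card _ (by rwa [natCard_SU card_K9])
  -- a supplement of a central subgroup contains the derived group
  have hsup : ∀ g : CV, ∃ h ∈ H, ∃ z ∈ center CV, g = h * z := fun g => by
    obtain ⟨h, hh, he⟩ := htop.ge (mem_top (proj φ0 g))
    exact ⟨h, hh, h⁻¹ * g, ker_central φ0 (by
      rw [MonoidHom.mem_ker, map_mul, map_inv, he, inv_mul_cancel]), by group⟩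
  refine eq_top_iff.2 ((perfect (F := K9) card_K9 φ0).ge.trans (commutator_le.2 fun a _ b _ => ?_))
  obtain ⟨h, hh, z, hz, rfl⟩ := hsup a
  obtain ⟨h', hh', z', hz', rfl⟩ := hsup b
  have cz : ∀ v, z * v = v * z := fun v => (mem_center_iff.1 hz v).symm
  have cz' : ∀ v, z' * v = v * z' := fun v => (mem_center_iff.1 hz' v).symm
  have e : ⁅h * z, h' * z'⁆ = ⁅h, h'⁆ := by
    rw [commutatorElement_def, commutatorElement_def, ← cz h, ← cz' h']
    calc z * h * (z' * h') * (z * h)⁻¹ * (z' * h')⁻¹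
        = z * (h * (z' * h') * h⁻¹) * z⁻¹ * (h'⁻¹ * z'⁻¹) := by group
      _ = h * (z' * h') * h⁻¹ * (h'⁻¹ * z'⁻¹) := by rw [cz, mul_inv_cancel_right]
      _ = h * (h' * z') * h⁻¹ * h'⁻¹ * z'⁻¹ := by rw [cz' h']; group
      _ = h * h' * (z' * (h⁻¹ * h'⁻¹)) * z'⁻¹ := by group
      _ = _ := by rw [cz', ← mul_assoc, mul_inv_cancel_right, mul_assoc, mul_assoc, mul_assoc]
  rw [e]
  exact mul_mem (mul_mem (mul_mem hh hh') (inv_mem hh)) (inv_mem hh')

end CfsgLib.KnownB.McLMult
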