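import Cfsg.Agent.Lib.KnownB.McLMult.Model
import Cfsg.Agent.Lib.KnownB.Mult.Levels

/-!
The condition at `5` for McLaughlin's group.
-/

set_option autoImplicit false
set_option maxRecDepth 100000
set_option maxHeartbeats 1000000
set_option Elab.async false

namespace CfsgLib.KnownB.McLMult

open CfsgLib.Spor.PermOut (getQ Rep InM permOf allN allN_iff)
open CfsgLib.KnownB.Mult (Code Cert PtAct PrimeCond)

/-- pack the images of a function -/
def packQ (f : ℕ → ℕ) : ℕ → ℕ → ℕ
  | 0, _ => 0
  | n + 1, i => f i % 512 + 512 * packQ f n (i + 1)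

theorem getQ_packQ (f : ℕ → ℕ) : ∀ (n i j : ℕ), j < n → getQ (packQ f n i) j = f (i + j) % 512 := by
  have hg : ∀ a j, getQ a j = a / 2 ^ (9 * j) % 512 := fun a j => by
    rw [getQ, Nat.shiftRight_eq_div_pow]
    exact Nat.and_two_pow_sub_one_eq_mod _ 9
  intro n
  induction n with
  | zero => intro i j h; omega
  | succ n ih =>
    intro i j h
    cases j with
    | zero => rw [hg, packQ]; simp [Nat.add_mul_mod_self_left]
    | succ j =>
      have h' := ih (i + 1) j (by omega)
      rw [hg] at h' ⊢
      rw [packQ, show 9 * (j + 1) = 9 + 9 * j by ring, pow_add, ← Nat.div_div_eq_div_mul,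
        show (2 : ℕ) ^ 9 = 512 by norm_num, Nat.add_mul_div_left _ _ (by norm_num : 0 < 512),
        Nat.div_eq_of_lt (Nat.mod_lt _ (by norm_num : 512 > 0)), zero_add, h', add_comm i 1, add_assoc,
        show 1 + (i + j) = i + (j + 1) by ring]

/-- composite of codes -/
def mulQ (a b : ℕ) : ℕ := packQ (fun i => getQ a (getQ b i)) 275 0

/-- equality of codes -/
def eqQ (a b : ℕ) : Bool := allN 275 fun x => Nat.beq (getQ a x) (getQ b x)

/-- the identity code -/
def oneQ : ℕ := packQ id 275 0

theorem els5_ok : (els5.all fun e => spells baseQ e.1 e.2) = true := by decide +kernel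

/-- codes for the permutation group -/
noncomputable def code5 : Code Mc ℕ where
  rep g a := Rep (g : Equiv.Perm (Fin 275)) a
  mul := mulQ
  one := oneQ
  eqc := eqQ
  okc x := els5.any fun e => Nat.beq e.1 x
  rep_mul {a b x y} h h' := fun i => by
    rw [mulQ, getQ_packQ _ 275 0 i i.2, zero_add, Subgroup.coe_mul, Equiv.Perm.mul_apply]
    rw [h, h' i, Nat.mod_eq_of_lt]
    rw [← h' i, ← h]
    exact lt_trans (Fin.is_lt _) (by norm_num)
  rep_one := fun i => by
    rw [oneQ, getQ_packQ _ 275 0 i i.2, zero_add, id, Nat.mod_eq_of_lt (lt_trans i.2 (by norm_num))]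
    rfl
  eq_iff {a b x y} h h' := by
    rw [eqQ, allN_iff]
    refine ⟨fun e => Subtype.ext (Equiv.ext fun i => Fin.ext ?_), fun e i hi => ?_⟩
    · rw [h, h']
      exact Nat.eq_of_beq_eq_true (e i i.2)
    · subst e
      rw [Nat.beq_eq, ← h ⟨i, hi⟩, ← h' ⟨i, hi⟩]
  exists_rep {x} hx := by
    obtain ⟨e, he, hex⟩ := List.any_eq_true.1 hx
    obtain rfl := Nat.eq_of_beq_eq_true hex
    obtain ⟨σ, hσ, hr⟩ := (spells_spec baseQ_mem (List.all_eq_true.1 els5_ok e he)).1
    exact ⟨⟨σ, hσ⟩, hr⟩

theorem gen5 : cert5.genOK code5 = true := by decide +kernel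

theorem rel5 : cert5.relOK code5 = true := by decide +kernel

theorem pc5 : cert5.pcOK 5 = true := by decide +kernel

theorem rows5 : cert5.rowsOK code5 5 = true := by decide +kernel

theorem target5 : cert5.targetOK 5 = true := by decide +kernel

/-- image of a point, from a code -/
def appF (a : ℕ) (v : Fin 275) : Fin 275 := Fin.ofNat 275 (getQ a v)

/-- equality of points -/
def eqF (v w : Fin 275) : Bool := Nat.beq v w

theorem lev5_ok : Cert.levelsOK code5 cert5 appF eqF lev5 [] = true := by decide +kernel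

theorem lev5_prod : 5 ^ cert5.n ≤ (lev5.map fun l => l.2.length).prod := by decide +kernel

instance factFive : Fact (Nat.Prime 5) := ⟨by norm_num⟩

instance : Finite Mc := Nat.finite_of_card_ne_zero (by rw [natCard_Mc]; norm_num)

/-- the action on points -/
noncomputable def act5 : PtAct Mc (Fin 275) where
  act g v := (g : Equiv.Perm (Fin 275)) v
  act_mul _ _ _ := rfl
  act_one _ := rfl

theorem primeCond_five : PrimeCond Mc 5 := by
  have hc : cert5.Core code5 5 := ⟨gen5, rel5, pc5, rows5, target5⟩
  refine Cert.primeCond_of_notMem hc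
    (Cert.notMem_of_levels hc act5 appF eqF (fun {g x} h v => Fin.ext ?_) (fun v w => ?_) lev5 lev5_ok lev5_prod)
    (m := 7185024) (natCard_Mc.trans (by norm_num [cert5])) (by norm_num)
  · show _ = getQ x v % 275
    rw [← h v]
    exact (Nat.mod_eq_of_lt (Fin.is_lt _)).symm
  · rw [eqF, Nat.beq_eq, Fin.val_inj]

end CfsgLib.KnownB.McLMult
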