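import Cfsg.Agent.Lib.KnownB.McLMult.Cover
import Cfsg.Agent.Lib.Spor.HSUnitary.Chain

/-!
The cover acts on the 112 totally isotropic lines by the listed permutations.
-/

set_option autoImplicit false
set_option maxRecDepth 100000
set_option synthInstance.maxSize 4000
set_option maxHeartbeats 1000000
set_option Elab.async false

namespace CfsgLib.KnownB.McLMult

open Subgroup Matrix
open CfsgLib.KnownB.U4Mult
open CfsgLib.Spor.McLUnitary (K9 ofCode toK toK_injective iK kOf kOf_dotN dotN allB allB_spec kOf_zero kOf_inj)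
open CfsgLib.Spor.HSUnitary (equivarSub equivarHom equivarHom_eq)
open scoped Pointwise

attribute [local instance] fintypeK9

/-- a base change check for one line under one generator -/
noncomputable def lineOK (k i : ℕ) : Bool :=
  let g := (genC.getD k one4).n
  let L := lineC.getD i 0
  let j := (pgQ.getD k []).getD i 0
  let L' := lineC.getD j 0
  let c := ((coefC.getD k []).getD i (0, 0))
  Nat.blt j 112 && eqN (mmN g L) (mmN L' c.1) && eqN L' (mmN (mmN g L) c.2)

theorem line_ok : ((List.range 9).all fun k => (List.range 112).all fun i => lineOK k i) = true := by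
  decide +kernel

/-- the functional of a line kills it -/
def annOK (j i : ℕ) : Bool := allB fun a b => Nat.beq (dotN (annC.getD j 0) (lineC.getD i 0) a b) 0

theorem ann_ok : ((List.range 112).all fun j => (List.range 112).all fun i =>
    cond (Nat.beq i j) (annOK j i) (!annOK j i)) = true := by decide +kernel

/-- a line as a set of vectors -/
def objL (i : Fin 112) : Set (Fin 4 → K9) := Set.range fun v => ofCode (lineC.getD i 0) *ᵥ v

theorem objL_inj : Function.Injective objL := by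
  intro i j h
  by_contra hne
  have hne' : Nat.beq (i : ℕ) j = false := by
    rw [← Bool.not_eq_true, Nat.beq_eq]
    exact fun e => hne (Fin.ext e)
  have h1 := List.all_eq_true.1 (List.all_eq_true.1 ann_ok j (List.mem_range.2 j.2)) i (List.mem_range.2 i.2)
  rw [hne', cond_false, Bool.not_eq_true'] at h1
  have h2 := List.all_eq_true.1 (List.all_eq_true.1 ann_ok j (List.mem_range.2 j.2)) j (List.mem_range.2 j.2)
  rw [show Nat.beq (j : ℕ) j = true by rw [Nat.beq_eq], cond_true] at h2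
  have e2 : ofCode (annC.getD j 0) * ofCode (lineC.getD j 0) = 0 := by
    refine Matrix.ext fun a b => ?_
    rw [← kOf_dotN, Nat.eq_of_beq_eq_true (allB_spec h2 a b), kOf_zero]
    rfl
  have e1 : ofCode (annC.getD j 0) * ofCode (lineC.getD i 0) = 0 := by
    refine Matrix.ext_of_mulVec_single fun b => ?_
    obtain ⟨v, hv⟩ : ofCode (lineC.getD i 0) *ᵥ Pi.single b 1 ∈ objL j := h ▸ ⟨_, rfl⟩
    rw [← mulVec_mulVec, ← hv, mulVec_mulVec, e2, zero_mulVec, zero_mulVec]
  apply Bool.false_ne_true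
  rw [← h1, annOK, allB]
  simp only [List.all_eq_true, List.mem_range, Nat.beq_eq]
  intro a ha b hb
  have e := congrFun (congrFun e1 ⟨a, ha⟩) ⟨b, hb⟩
  rw [← kOf_dotN, Matrix.zero_apply, ← kOf_zero] at e
  exact kOf_inj _ (dotN_lt _ _ _ _) 0 (by norm_num) e
where
  dotN_lt (a b i j : ℕ) : dotN a b i j < 9 := addN_lt _ _

/-- the action on vectors -/
noncomputable local instance instMulActionVec : MulAction CV (Fin 4 → K9) where
  smul e v := toK φ0 (proj φ0 e) *ᵥ v
  one_smul v := by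
    show toK φ0 (proj φ0 1) *ᵥ v = v
    rw [map_one, map_one, one_mulVec]
  mul_smul e f v := by
    show toK φ0 (proj φ0 (e * f)) *ᵥ v = toK φ0 (proj φ0 e) *ᵥ (toK φ0 (proj φ0 f) *ᵥ v)
    rw [map_mul, map_mul, mulVec_mulVec]

/-- the permutation of lines of a generator -/
noncomputable def pgP (k : ℕ) : Fin 112 → Fin 112 := fun i => Fin.ofNat 112 ((pgQ.getD k []).getD i 0)

theorem pgP_bij : ∀ k : Fin 9, Function.Bijective (pgP k) := by decide +kernel

theorem gen_smul (k : ℕ) (hk : k < 9) (i : Fin 112) : gen k • objL i = objL (pgP k i) := by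
  have h := List.all_eq_true.1 (List.all_eq_true.1 line_ok k (List.mem_range.2 hk)) i (List.mem_range.2 i.2)
  simp only [lineOK, Bool.and_eq_true, Nat.blt_eq, eqN_iff, ofCode_mmN] at h
  obtain ⟨⟨hj, h1⟩, h2⟩ := h
  have hp : (pgP k i : ℕ) = (pgQ.getD k []).getD i 0 := Nat.mod_eq_of_lt hj
  have hg : ∀ v : Fin 4 → K9, gen k • v = ofCode (genC.getD k one4).n *ᵥ v := fun v =>
    congrArg (· *ᵥ v) (rep_gen hk).1
  ext v
  rw [Set.mem_smul_set]
  constructor
  · rintro ⟨_, ⟨u, rfl⟩, rfl⟩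
    refine ⟨ofCode ((coefC.getD k []).getD i (0, 0)).1 *ᵥ u, ?_⟩
    dsimp only
    rw [hg, mulVec_mulVec, mulVec_mulVec, hp, h1]
  · rintro ⟨u, rfl⟩
    refine ⟨_, ⟨ofCode ((coefC.getD k []).getD i (0, 0)).2 *ᵥ u, rfl⟩, ?_⟩
    dsimp only
    rw [hg, mulVec_mulVec, mulVec_mulVec, hp, ← h2]

theorem exists_lineHom : ∃ ψ : CV →* Equiv.Perm (Fin 112),
    (∀ k < 9, ∀ i, ψ (gen k) i = pgP k i) ∧ ψ sEl = 1 ∧ ∀ c, ψ (kz φ0 c) = 1 := by
  classical
  have hρ : Function.Injective (MonoidHom.id (Equiv.Perm (Fin 112))) := fun a b h => h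
  have hH : (⊤ : Subgroup CV) ≤ equivarSub objL (MonoidHom.id (Equiv.Perm (Fin 112))) := by
    rw [← closure_gen, closure_le]
    rintro _ ⟨k, rfl⟩
    by_cases hk : k < 9
    · exact ⟨Equiv.ofBijective _ (pgP_bij ⟨k, hk⟩), fun i => gen_smul k hk i⟩
    · exact ⟨1, fun i => by rw [gen, dif_neg hk, one_smul]; rfl⟩
  let ψ : CV →* Equiv.Perm (Fin 112) :=
    (equivarHom objL_inj hρ ⊤ hH).comp Subgroup.topEquiv.symm.toMonoidHom
  have hfix : ∀ e : CV, (∀ i, e • objL i = objL i) → ψ e = 1 := fun e he =>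
    equivarHom_eq objL_inj hρ ⊤ hH fun i => he i
  refine ⟨ψ, fun k hk i => ?_, hfix _ fun i => ?_, fun c => hfix _ fun i => ?_⟩
  · rw [show ψ (gen k) = Equiv.ofBijective _ (pgP_bij ⟨k, hk⟩) from
      equivarHom_eq objL_inj hρ ⊤ hH fun i => gen_smul k hk i]
    rfl
  · have hs : ∀ v : Fin 4 → K9, sEl • v = iK • v := fun v => by
      show toK φ0 (proj φ0 sEl) *ᵥ v = _
      rw [toK_sEl, smul_mulVec, one_mulVec]
    have hi : iK ≠ 0 := by decide +kernel
    ext v
    rw [Set.mem_smul_set]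
    constructor
    · rintro ⟨_, ⟨u, rfl⟩, rfl⟩
      exact ⟨iK • u, by dsimp only; rw [hs, mulVec_smul]⟩
    · rintro ⟨u, rfl⟩
      refine ⟨_, ⟨iK⁻¹ • u, rfl⟩, ?_⟩
      dsimp only
      rw [hs, mulVec_smul, smul_smul, mul_inv_cancel₀ hi, one_smul]
  · have hs : ∀ v : Fin 4 → K9, kz φ0 c • v = v := fun v => by
      show toK φ0 (proj φ0 (kz φ0 c)) *ᵥ v = v
      rw [show proj φ0 (kz φ0 c) = 1 from rfl, map_one, one_mulVec]
    ext v
    rw [Set.mem_smul_set]
    exact ⟨by rintro ⟨u, hu, rfl⟩; rwa [hs], fun h => ⟨v, h, hs v⟩⟩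

end CfsgLib.KnownB.McLMult
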