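import Cfsg.Agent.Lib.KnownB.McLMult.Pairs
import Cfsg.Agent.Lib.KnownB.McLMult.Five
import Cfsg.Agent.Lib.KnownB.O7Mult.Main

/-! The Schur multiplier of McLaughlin's group is cyclic of order three. -/

set_option autoImplicit false
set_option maxRecDepth 100000
set_option synthInstance.maxSize 4000
set_option maxHeartbeats 1000000

namespace CfsgLib.KnownB.McLMult

open Subgroup Cfsg
open CfsgLib.KnownB.U4Mult
open CfsgLib.Spor.McLUnitary (K9)

attribute [local instance] fintypeK9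

instance : Finite CV := Nat.finite_of_card_ne_zero (by rw [natCard_Cv card_K9]; norm_num)

theorem kz_mk (c d : ℕ) :
    zEl (0, c, d) = kz φ0 (Multiplicative.ofAdd ((c : ZMod 3), (d : ZMod 3))) := by
  rw [zEl, pow_zero, one_mul]

theorem zEl_zero : zEl (0, 0, 0) = 1 := by
  rw [kz_mk, Nat.cast_zero]
  exact map_one (kz φ0)

theorem prime_eleven : Fact (Nat.Prime 11) := ⟨by norm_num⟩

theorem not_dvd_five {Γ : Type} [Group Γ] [Finite Γ] (σ : Γ →* Mc) (hσ : IsStemExtension σ) :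
    ¬ 5 ∣ Nat.card σ.ker :=
  O7Mult.not_dvd_of_primeCond primeCond_five σ hσ

theorem not_dvd_eleven {Γ : Type} [Group Γ] [Finite Γ] (σ : Γ →* Mc) (hσ : IsStemExtension σ) :
    ¬ 11 ∣ Nat.card σ.ker := by
  haveI := prime_eleven
  obtain ⟨S⟩ : Nonempty (Sylow 11 Mc) := inferInstance
  exact O7Mult.not_dvd_of_primeCond
    (Mult.primeCond_of_cyclic S (Mult.isCyclic_sylow (by rw [natCard_Mc]; norm_num) S)) σ hσ

theorem ker_bound {Γ : Type} [Group Γ] [Finite Γ] (σ : Γ →* Mc) (hσ : IsStemExtension σ) :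
    Nat.card σ.ker ∣ 3 := by
  have hcop : (Nat.card σ.ker).Coprime UM.index := by
    rw [index_UM]
    show Nat.Coprime (Nat.card σ.ker) (5 * 5 * 11)
    have h5 := ((Nat.prime_five.coprime_iff_not_dvd).2 (not_dvd_five σ hσ)).symm
    have h11 := (((by norm_num : Nat.Prime 11).coprime_iff_not_dvd).2 (not_dvd_eleven σ hσ)).symm
    exact (h5.mul_right h5).mul_right h11
  obtain ⟨lam, hlam, hle⟩ := exists_hom_kernel UM theta theta_surjective
    (trivial_multiplier card_K9 φ0) (perfect card_K9 φ0) σ hσ hcop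
  have h1 : lam sEl = 1 := by
    have h := lam_of_fusion σ hσ.1 hσ.2.1 lam hlam fusS_ok
    rw [zEl_zero, map_one, zEl, pow_one] at h
    rw [← h, Nat.cast_zero, show kz φ0 (Multiplicative.ofAdd ((0 : ZMod 3), (0 : ZMod 3))) = 1 from
      map_one _, mul_one]
  have h2 : lam (kz φ0 (Multiplicative.ofAdd ((2 : ZMod 3), (2 : ZMod 3)))) = 1 := by
    have h := lam_of_fusion σ hσ.1 hσ.2.1 lam hlam fusL_ok
    rw [zEl_zero, map_one, kz_mk] at h
    exact h.symm
  let u : Multiplicative (ZMod 3 × ZMod 3) := Multiplicative.ofAdd ((1 : ZMod 3), (0 : ZMod 3))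
  let v : Multiplicative (ZMod 3 × ZMod 3) := Multiplicative.ofAdd ((2 : ZMod 3), (2 : ZMod 3))
  have hdec : ∀ t : Multiplicative (ZMod 3 × ZMod 3), ∃ a b : Fin 3, t = u ^ (a : ℕ) * v ^ (b : ℕ) := by
    decide +kernel
  have hsub : σ.ker ≤ zpowers (lam (kz φ0 u)) := by
    intro k hk
    obtain ⟨c, hc, rfl⟩ := hle hk
    obtain ⟨j, rfl⟩ := exists_zEl_of_mem hc
    obtain ⟨a, b, hab⟩ := hdec (Multiplicative.ofAdd (((j.2.1 : ℕ) : ZMod 3), ((j.2.2 : ℕ) : ZMod 3)))
    show lam (sEl ^ _ * kz φ0 _) ∈ _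
    rw [map_mul, map_pow, h1, one_pow, one_mul, hab, map_mul, map_mul, map_pow, map_pow, map_pow,
      map_pow, h2, one_pow, mul_one]
    exact pow_mem (mem_zpowers _) _
  refine (card_dvd_of_le hsub).trans ?_
  rw [Nat.card_zpowers]
  refine orderOf_dvd_of_pow_eq_one ?_
  rw [← map_pow, ← map_pow, show u ^ 3 = 1 by decide +kernel, map_one, map_one]

theorem multiplier_Mc : HasCyclicSchurMultiplier Mc 3 := by
  obtain ⟨Γ, _, _, σ, _, hs, _, _, _, ⟨j⟩⟩ := Schur.exists_cover Mc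
  haveI : Finite (Schur.Mult Mc) := Finite.of_equiv _ j.toEquiv
  haveI : Fact (Nat.Prime 3) := ⟨Nat.prime_three⟩
  obtain ⟨m, hm⟩ := mult_nontrivial
  have h1 : Nat.card (Schur.Mult Mc) ∣ 3 := (Nat.card_congr j.toEquiv) ▸ ker_bound σ hs
  have h2 : 3 ∣ Nat.card (Schur.Mult Mc) :=
    (Nat.dvd_of_mod_eq_zero hm).trans (orderOf_dvd_natCard m)
  rw [HasCyclicSchurMultiplier, Schur.hasSchurMultiplier_iff]
  exact ⟨mulEquivOfPrimeCardEq (p := 3) ((Nat.card_congr Multiplicative.toAdd).trans (Nat.card_zmod 3))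
    (Nat.dvd_antisymm h1 h2)⟩

theorem hasMultiplier : HasCyclicSchurMultiplier ↥Cfsg.Spor.McL 3 := by
  obtain ⟨e⟩ := equiv_Mc
  haveI : Finite ↥Cfsg.Spor.McL := Finite.of_equiv _ e.symm.toEquiv
  exact O7Mult.hasSchurMultiplier_equiv e.symm multiplier_Mc

end CfsgLib.KnownB.McLMult
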