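import Cfsg.Agent.Lib.KnownB.McLMult.Data
import Cfsg.Agent.Lib.KnownB.McLMult.PairData
import Cfsg.Agent.Lib.KnownB.McLMult.FiveData
import Cfsg.Agent.Lib.Spor.PermOut.McL
import Cfsg.Agent.Lib.Spor.McLUnitary.Data

/-!
McLaughlin's group as a permutation group on 275 points, with a transversal of a point stabiliser.
-/

set_option autoImplicit false
set_option maxRecDepth 100000
set_option maxHeartbeats 1000000
set_option Elab.async false

namespace CfsgLib.KnownB.McLMult

open Cfsg CfsgLib.Spor CfsgLib.Spor.Config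
open CfsgLib.Spor.PermOut (getQ Rep InM permOf app app_prod allN allN_iff)
open CfsgLib.Spor.McLConfig (ce pairStab p275 mclGens)
open CfsgLib.Spor.ShortPairs (v0)
open CfsgLib.Spor.McLUnitary (progA progB)

/-- programs of the generators -/
def baseP : List (List Stp) := mclGens ++ [progA, progB]

theorem baseP_gens : Gens pairStab baseP :=
  Gens.of_fixesB (cfg := [lOf (v0 : GolayPt → ℤ), lOf (ce : GolayPt → ℤ)]) (by decide +kernel)
    fun _ h => ⟨MulAction.mem_stabilizer_iff.2 (h v0 (by simp)),
      MulAction.mem_stabilizer_iff.2 (h ce (by simp))⟩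

theorem progs_ok : ((List.range baseP.length).all fun j =>
    PermOut.progOK PermOut.McLData.pts 275 (baseP.getD j []) (baseQ.getD j 0)) = true := by
  decide +kernel

theorem moves_ok : ((List.range baseP.length).any fun j =>
    (List.range 275).any fun i => !Nat.beq (getQ (baseQ.getD j 0) i) i) = true := by decide +kernel

theorem exists_mdl : ∃ M : Subgroup (Equiv.Perm (Fin 275)),
    Nonempty (Cfsg.Spor.McL ≃* M) ∧ ∀ c ∈ baseQ, InM M c := by
  haveI : IsSimpleGroup pairStab := ConwaySimple.isSimple_mcl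
  obtain ⟨M, ⟨e⟩, hM⟩ := PermOut.exists_model (K := pairStab) PermOut.McLData.pts_length
    PermOut.McLData.pts_ok PermOut.McLData.pts_nodup McLConfig.ncard_275 (McLConfig.pairStab_fix 16 8)
    baseP_gens baseQ (by decide +kernel) progs_ok moves_ok
  obtain ⟨e'⟩ := PermOut.McLData.pairStab_equiv_mcl
  exact ⟨M, ⟨e'.symm.trans e⟩, hM⟩

/-- the permutation group -/
noncomputable def Mc : Subgroup (Equiv.Perm (Fin 275)) := exists_mdl.choose

theorem equiv_Mc : Nonempty (Cfsg.Spor.McL ≃* Mc) := exists_mdl.choose_spec.1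

theorem baseQ_mem : ∀ c ∈ baseQ, InM Mc c := exists_mdl.choose_spec.2

theorem natCard_Mc : Nat.card Mc = 898128000 := by
  obtain ⟨e⟩ := equiv_Mc
  obtain ⟨e'⟩ := PermOut.McLData.pairStab_equiv_mcl
  rw [← Nat.card_congr (e'.trans e).toEquiv, ConwaySimple.natCard_mclStd]

/-- a code is the product along a word in a table -/
def spells (tab : List ℕ) (c : ℕ) (w : List ℕ) : Bool :=
  (w.all fun k => Nat.blt k tab.length) &&
    allN 275 fun x => Nat.beq (getQ c x) (app (w.map fun k => tab.getD k 0) x)

/-- the permutation of a word in a table -/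
noncomputable def wordP (tab : List ℕ) (w : List ℕ) : Equiv.Perm (Fin 275) :=
  ((w.map fun k => tab.getD k 0).map (permOf 275)).prod

theorem mem_of_wordP {tab : List ℕ} (ht : ∀ a ∈ tab, InM Mc a) : ∀ {w : List ℕ},
    (w.all fun k => Nat.blt k tab.length) = true →
      wordP tab w ∈ Mc ∧ ∀ i : Fin 275, ((wordP tab w i : Fin 275) : ℕ) = app (w.map fun k => tab.getD k 0) i := by
  intro w hw
  simp only [List.all_eq_true, Nat.blt_eq] at hw
  have h : ∀ a ∈ w.map fun k => tab.getD k 0, InM Mc a := fun a ha => by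
    obtain ⟨k, hk, rfl⟩ := List.mem_map.1 ha
    rw [List.getD_eq_getElem _ _ (hw k hk)]
    exact ht _ (List.getElem_mem _)
  refine ⟨Subgroup.list_prod_mem _ fun g hg => ?_, fun i => app_prod _ (fun a ha => (h a ha).rep) i⟩
  obtain ⟨a, ha, rfl⟩ := List.mem_map.1 hg
  exact (h a ha).mem

theorem spells_spec {tab : List ℕ} (ht : ∀ a ∈ tab, InM Mc a) {c : ℕ} {w : List ℕ}
    (h : spells tab c w = true) : InM Mc c ∧ permOf 275 c = wordP tab w := by
  simp only [spells, Bool.and_eq_true, allN_iff, Nat.beq_eq] at h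
  obtain ⟨h1, h2⟩ := mem_of_wordP ht h.1
  have hr : Rep (wordP tab w) c := fun i => (h2 i).trans (h.2 i i.2).symm
  exact ⟨⟨_, h1, hr⟩, hr.permOf_eq⟩

theorem genU_ok : ((List.range 9).all fun k => spells baseQ (genUQ.getD k 0) (genUW.getD k [])) = true := by
  decide +kernel

theorem genUQ_mem : ∀ c ∈ genUQ, InM Mc c := by
  intro c hc
  obtain ⟨k, hk, rfl⟩ := List.mem_iff_getElem.1 hc
  have h := List.all_eq_true.1 genU_ok k (List.mem_range.2 ((show genUQ.length = 9 by decide +kernel) ▸ hk))
  rw [List.getD_eq_getElem _ _ hk] at h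
  exact (spells_spec baseQ_mem h).1

theorem xy_ok : (spells genUQ xQ xW && spells genUQ yQ yW) = true := by decide +kernel

theorem orbR_ok : (orbRQ.all fun e => spells baseQ e.1 e.2) = true := by decide +kernel

/-- the table for the transversal -/
def repTab : List ℕ := xQ :: yQ :: orbRQ.map Prod.fst

theorem repTab_mem : ∀ c ∈ repTab, InM Mc c := by
  have h := xy_ok
  rw [Bool.and_eq_true] at h
  intro c hc
  rcases List.mem_cons.1 hc with rfl | hc
  · exact (spells_spec genUQ_mem h.1).1
  rcases List.mem_cons.1 hc with rfl | hc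
  · exact (spells_spec genUQ_mem h.2).1
  obtain ⟨e, he, rfl⟩ := List.mem_map.1 hc
  exact (spells_spec baseQ_mem (List.all_eq_true.1 orbR_ok e he)).1

theorem rep_ok : ((List.range 275).all fun p => spells repTab (repQ.getD p (0, [])).1 (repQ.getD p (0, [])).2 &&
    Nat.beq (getQ (repQ.getD p (0, [])).1 0) p) = true := by decide +kernel

/-- the code of a representative -/
def rQ (p : ℕ) : ℕ := (repQ.getD p (0, [])).1

theorem rQ_spec (p : Fin 275) : InM Mc (rQ p) ∧ getQ (rQ p) 0 = p := by
  have h := List.all_eq_true.1 rep_ok p (List.mem_range.2 p.2)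
  rw [Bool.and_eq_true, Nat.beq_eq] at h
  exact ⟨(spells_spec repTab_mem h.1).1, h.2⟩

/-- a representative sending the base point to a point -/
noncomputable def rM (p : Fin 275) : Mc := ⟨permOf 275 (rQ p), (rQ_spec p).1.mem⟩

theorem rM_smul (p : Fin 275) : rM p • (0 : Fin 275) = p :=
  Fin.ext (((rQ_spec p).1.rep 0).trans (rQ_spec p).2)

noncomputable instance : MulAction.IsPretransitive Mc (Fin 275) :=
  ⟨fun a b => ⟨rM b * (rM a)⁻¹, by
    rw [mul_smul, inv_smul_eq_iff.2 (rM_smul a).symm, rM_smul]⟩⟩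

/-- the point stabiliser -/
noncomputable abbrev UM : Subgroup Mc := MulAction.stabilizer Mc (0 : Fin 275)

theorem index_UM : UM.index = 275 := by
  rw [MulAction.index_stabilizer_of_transitive, Nat.card_fin]

theorem natCard_UM : Nat.card UM = 3265920 := by
  have h := UM.card_mul_index
  rw [index_UM, natCard_Mc] at h
  omega

end CfsgLib.KnownB.McLMult
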