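import Mathlib
import Cfsg.Agent.Lib.Schur.Lift

/-!
The transfer from the multiplier of a group into the kernel of a central extension of a point
stabiliser, evaluated on the symbol of a commuting pair; and the bound from a point stabiliser of
index prime to the kernel.
-/

set_option autoImplicit false

namespace CfsgLib.KnownB.McLMult

open Subgroup CfsgLib.Schur
open scoped commutatorElement

universe u v w

/-- The value of the transfer on a commuting pair divides the order of the multiplier. -/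
theorem exists_transfer {G : Type u} [Group G] [Finite G] {X : Type v} [Fintype X] [MulAction G X]
    (x₀ : X) {C : Type w} [Group C] (θ : C →* MulAction.stabilizer G x₀) (hθ : Function.Surjective θ)
    (hc : θ.ker ≤ center C) {x y : G} (hxy : x * y = y * x) (r : X → G) (hr : ∀ p, r p • x₀ = p)
    (A B : X → C) (hA : ∀ p, ((θ (A p) : MulAction.stabilizer G x₀) : G) = (r p)⁻¹ * x * r (x⁻¹ • p))
    (hB : ∀ p, ((θ (B p) : MulAction.stabilizer G x₀) : G) = (r p)⁻¹ * y * r (y⁻¹ • p))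
    (K : Type w) [CommGroup K] (ι : θ.ker →* K) (t : X → K)
    (ht : ∀ p, ∃ z : θ.ker, ι z = t p ∧
      A p * B (x⁻¹ • p) = (z : C) * (B p * A (y⁻¹ • p))) :
    ∃ (Φ : Mult G →* K) (m : Mult G), Φ m = ∏ p, t p := by
  classical
  let W : Subgroup (FreeGroup G) := (MulAction.stabilizer G x₀).comap (pres G)
  haveI : IsFreeGroup W := subgroupIsFreeOfIsFree W
  let φW : W →* MulAction.stabilizer G x₀ :=
    ((pres G).comp W.subtype).codRestrict _ fun w => w.2
  let g : W →* C := IsFreeGroup.lift fun i => Function.surjInv hθ (φW (IsFreeGroup.of i))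
  have hg : θ.comp g = φW := IsFreeGroup.ext_hom fun i => by simp [g, Function.surjInv_eq hθ]
  have pres_of : ∀ a : G, pres G (FreeGroup.of a) = a := fun a => by simp [pres]
  let α : X → FreeGroup G := fun p => FreeGroup.of (r p)
  have hα : ∀ p, pres G (α p) • x₀ = p := fun p => by rw [pres_of]; exact hr p
  have hWm : ∀ (p : X) (a : FreeGroup G) (q : X), pres G a • q = p → (α p)⁻¹ * a * α q ∈ W := by
    intro p a q h
    show pres G _ ∈ MulAction.stabilizer G x₀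
    rw [MulAction.mem_stabilizer_iff, map_mul, map_mul, mul_smul, mul_smul, hα, h, map_inv,
      inv_smul_eq_iff, hα]
  have hRW : ∀ (s : (pres G).ker) (p : X), (α p)⁻¹ * s * α p ∈ W := fun s p =>
    hWm p s p (by rw [MonoidHom.mem_ker.1 s.2, one_smul])
  have hgR : ∀ (s : (pres G).ker) (p : X), g ⟨(α p)⁻¹ * s * α p, hRW s p⟩ ∈ θ.ker := fun s p => by
    rw [MonoidHom.mem_ker, ← MonoidHom.comp_apply, hg]
    refine Subtype.ext ?_
    show pres G ((α p)⁻¹ * s * α p) = 1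
    rw [map_mul, map_mul, MonoidHom.mem_ker.1 s.2, mul_one, map_inv, inv_mul_cancel]
  -- the norm
  let N : (pres G).ker →* K := MonoidHom.mk'
    (fun s => ∏ p, ι ⟨g ⟨(α p)⁻¹ * s * α p, hRW s p⟩, hgR s p⟩) fun s t => by
      rw [← Finset.prod_mul_distrib]
      refine Finset.prod_congr rfl fun p _ => ?_
      rw [← map_mul]
      refine congrArg ι (Subtype.ext ?_)
      show g _ = g _ * g _
      rw [← map_mul]
      refine congrArg g (Subtype.ext ?_)
      show (α p)⁻¹ * ((s : FreeGroup G) * t) * α p = (α p)⁻¹ * s * α p * ((α p)⁻¹ * t * α p)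
      group
  have hinv : ∀ (s : (pres G).ker) (a : FreeGroup G),
      N ⟨a⁻¹ * s * a, by rw [MonoidHom.mem_ker, map_mul, map_mul, MonoidHom.mem_ker.1 s.2, mul_one,
        map_inv, inv_mul_cancel]⟩ = N s := by
    intro s a
    refine Fintype.prod_equiv (MulAction.toPerm (pres G a)) _ _ fun p => congrArg ι (Subtype.ext ?_)
    have hw : (α (pres G a • p))⁻¹ * a * α p ∈ W := hWm _ a p rfl
    show g ⟨(α p)⁻¹ * (a⁻¹ * (s : FreeGroup G) * a) * α p, _⟩ =
      g ⟨(α (pres G a • p))⁻¹ * s * α (pres G a • p), _⟩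
    have he : (⟨(α p)⁻¹ * (a⁻¹ * (s : FreeGroup G) * a) * α p, hRW ⟨_, by
          rw [MonoidHom.mem_ker, map_mul, map_mul, MonoidHom.mem_ker.1 s.2, mul_one,
            map_inv, inv_mul_cancel]⟩ p⟩ : W) =
        (⟨_, hw⟩ : W)⁻¹ * ⟨(α (pres G a • p))⁻¹ * s * α (pres G a • p), hRW s _⟩ * ⟨_, hw⟩ := by
      refine Subtype.ext ?_
      simp only [Subgroup.coe_mul, Subgroup.coe_inv]
      group
    rw [he, map_mul, map_mul, map_inv, mul_assoc,
      ← mem_center_iff.1 (hc (hgR s (pres G a • p))) _, inv_mul_cancel_left]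
  let π : (pres G).ker →* (proj G).ker :=
    ((QuotientGroup.mk' (relCommutator G)).comp (pres G).ker.subtype).codRestrict (proj G).ker
      fun s => s.2
  have hπ : Function.Surjective π := by
    rintro ⟨z, hz⟩
    obtain ⟨a, rfl⟩ := QuotientGroup.mk_surjective z
    exact ⟨⟨a, hz⟩, rfl⟩
  have hk : π.ker ≤ N.ker := by
    have hle : relCommutator G ≤ N.ker.map (pres G).ker.subtype := by
      rw [commutator_le]
      intro s hs a _
      refine ⟨⟨s, hs⟩ * ⟨a * s⁻¹ * a⁻¹, by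
        rw [MonoidHom.mem_ker, map_mul, map_mul, map_inv, map_inv, MonoidHom.mem_ker.1 hs,
          inv_one, mul_one, mul_inv_cancel]⟩, ?_, ?_⟩
      · rw [SetLike.mem_coe, MonoidHom.mem_ker, map_mul]
        have h1 := hinv ⟨s⁻¹, inv_mem hs⟩ a⁻¹
        simp only [inv_inv] at h1
        rw [h1, ← map_mul, show ((⟨s, hs⟩ : (pres G).ker) * ⟨s⁻¹, inv_mem hs⟩) = 1 from
          Subtype.ext (mul_inv_cancel s), map_one]
      · show s * (a * s⁻¹ * a⁻¹) = s * a * s⁻¹ * a⁻¹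
        group
    intro z hz
    obtain ⟨s, hs, hsz⟩ := hle ((QuotientGroup.eq_one_iff _).1 (congrArg Subtype.val hz))
    rwa [← Subtype.ext hsz]
  let t₀ : (proj G).ker →* K := π.liftOfSurjective hπ ⟨N, hk⟩
  -- the commutator of the pair
  let X' : FreeGroup G := FreeGroup.of x
  let Y' : FreeGroup G := FreeGroup.of y
  have hm : ⁅X', Y'⁆ ∈ (pres G).ker := by
    rw [MonoidHom.mem_ker, map_commutatorElement, pres_of, pres_of, commutatorElement_eq_one_iff_mul_comm]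
    exact hxy
  have hmM : ((π ⟨_, hm⟩ : (proj G).ker) : Cov G) ∈ multiplier G := ⟨(π ⟨_, hm⟩).2, by
    show (QuotientGroup.mk' (relCommutator G)) ⁅X', Y'⁆ ∈ _root_.commutator (Cov G)
    rw [map_commutatorElement]
    exact commutator_mem_commutator (mem_top _) (mem_top _)⟩
  refine ⟨t₀.comp (Subgroup.inclusion inf_le_left), ⟨_, hmM⟩, ?_⟩
  show t₀ (π ⟨⁅X', Y'⁆, hm⟩) = _
  rw [show t₀ (π ⟨_, hm⟩) = N ⟨_, hm⟩ from MonoidHom.liftOfRightInverse_comp_apply _ _ _ _ _,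
    MonoidHom.mk'_apply]
  -- the factors of the conjugates
  have hxp : ∀ p : X, pres G X' • (x⁻¹ • p) = p := fun p => by rw [pres_of, smul_inv_smul]
  have hyp : ∀ p : X, pres G Y' • (y⁻¹ • p) = p := fun p => by rw [pres_of, smul_inv_smul]
  let a : X → W := fun p => ⟨_, hWm p X' _ (hxp p)⟩
  let b : X → W := fun p => ⟨_, hWm p Y' _ (hyp p)⟩
  have hga : ∀ p, (A p)⁻¹ * g (a p) ∈ θ.ker := fun p => by
    rw [MonoidHom.mem_ker, map_mul, map_inv, ← MonoidHom.comp_apply, hg, inv_mul_eq_one]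
    refine Subtype.ext ((hA p).trans ?_)
    show _ = pres G ((α p)⁻¹ * X' * α (x⁻¹ • p))
    rw [map_mul, map_mul, map_inv, pres_of, pres_of, pres_of]
  have hgb : ∀ p, (B p)⁻¹ * g (b p) ∈ θ.ker := fun p => by
    rw [MonoidHom.mem_ker, map_mul, map_inv, ← MonoidHom.comp_apply, hg, inv_mul_eq_one]
    refine Subtype.ext ((hB p).trans ?_)
    show _ = pres G ((α p)⁻¹ * Y' * α (y⁻¹ • p))
    rw [map_mul, map_mul, map_inv, pres_of, pres_of, pres_of]
  choose z hz1 hz2 using ht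
  have hcomm : ∀ p : X, x⁻¹ • y⁻¹ • p = y⁻¹ • x⁻¹ • p := fun p => by
    rw [smul_smul, smul_smul, ← mul_inv_rev, ← mul_inv_rev, hxy]
  have hterm : ∀ p, ι ⟨g ⟨(α p)⁻¹ * ⁅X', Y'⁆ * α p, hRW ⟨_, hm⟩ p⟩, hgR ⟨_, hm⟩ p⟩ =
      t p * ((ι ⟨_, hga p⟩ * (ι ⟨_, hga (y⁻¹ • p)⟩)⁻¹) *
        (ι ⟨_, hgb (x⁻¹ • p)⟩ * (ι ⟨_, hgb p⟩)⁻¹)) := by
    intro p
    rw [← hz1 p, ← map_inv, ← map_inv, ← map_mul, ← map_mul, ← map_mul, ← map_mul]
    refine congrArg ι (Subtype.ext ?_)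
    have he : (⟨(α p)⁻¹ * ⁅X', Y'⁆ * α p, hRW ⟨_, hm⟩ p⟩ : W) =
        a p * b (x⁻¹ • p) * (a (y⁻¹ • p))⁻¹ * (b p)⁻¹ := by
      refine Subtype.ext ?_
      show (α p)⁻¹ * ⁅X', Y'⁆ * α p = (α p)⁻¹ * X' * α (x⁻¹ • p) *
        ((α (x⁻¹ • p))⁻¹ * Y' * α (y⁻¹ • (x⁻¹ • p))) *
        ((α (y⁻¹ • p))⁻¹ * X' * α (x⁻¹ • (y⁻¹ • p)))⁻¹ * ((α p)⁻¹ * Y' * α (y⁻¹ • p))⁻¹
      rw [hcomm, commutatorElement_def]
      group
    show g _ = (z p : C) * (((A p)⁻¹ * g (a p) * ((A (y⁻¹ • p))⁻¹ * g (a (y⁻¹ • p)))⁻¹) *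
      ((B (x⁻¹ • p))⁻¹ * g (b (x⁻¹ • p)) * ((B p)⁻¹ * g (b p))⁻¹))
    rw [he, map_mul, map_mul, map_mul, map_inv, map_inv]
    have c1 : ∀ e, (A p)⁻¹ * g (a p) * e = e * ((A p)⁻¹ * g (a p)) := fun e =>
      (mem_center_iff.1 (hc (hga p)) e).symm
    have c2 : ∀ e, (A (y⁻¹ • p))⁻¹ * g (a (y⁻¹ • p)) * e = e * ((A (y⁻¹ • p))⁻¹ * g (a (y⁻¹ • p))) :=
      fun e => (mem_center_iff.1 (hc (hga _)) e).symm
    have c3 : ∀ e, (B (x⁻¹ • p))⁻¹ * g (b (x⁻¹ • p)) * e = e * ((B (x⁻¹ • p))⁻¹ * g (b (x⁻¹ • p))) :=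
      fun e => (mem_center_iff.1 (hc (hgb _)) e).symm
    have c4 : ∀ e, (B p)⁻¹ * g (b p) * e = e * ((B p)⁻¹ * g (b p)) :=
      fun e => (mem_center_iff.1 (hc (hgb p)) e).symm
    generalize hka : (A p)⁻¹ * g (a p) = ka at c1 ⊢
    generalize hka' : (A (y⁻¹ • p))⁻¹ * g (a (y⁻¹ • p)) = ka' at c2 ⊢
    generalize hkb : (B (x⁻¹ • p))⁻¹ * g (b (x⁻¹ • p)) = kb at c3 ⊢
    generalize hkb' : (B p)⁻¹ * g (b p) = kb' at c4 ⊢
    rw [inv_mul_eq_iff_eq_mul] at hka hka' hkb hkb'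
    rw [hka, hka', hkb, hkb']
    have h := hz2 p
    calc A p * ka * (B (x⁻¹ • p) * kb) * (A (y⁻¹ • p) * ka')⁻¹ * (B p * kb')⁻¹
        = A p * (ka * B (x⁻¹ • p)) * kb * (ka'⁻¹ * (A (y⁻¹ • p))⁻¹) * (kb'⁻¹ * (B p)⁻¹) := by group
      _ = A p * B (x⁻¹ • p) * (A (y⁻¹ • p))⁻¹ * (B p)⁻¹ * (ka * ka'⁻¹ * (kb * kb'⁻¹)) := by
        have e1 : ∀ e, ka'⁻¹ * e = e * ka'⁻¹ := fun e =>
          (Commute.inv_left (show Commute ka' e from c2 e)).eq
        have e2 : ∀ e, kb'⁻¹ * e = e * kb'⁻¹ := fun e => (Commute.inv_left (show Commute kb' e from c4 e)).eq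
        rw [c1 (B _), e1, e2]
        calc A p * (B (x⁻¹ • p) * ka) * kb * ((A (y⁻¹ • p))⁻¹ * ka'⁻¹) * ((B p)⁻¹ * kb'⁻¹)
            = A p * B (x⁻¹ • p) * (ka * (kb * (A (y⁻¹ • p))⁻¹) * (ka'⁻¹ * (B p)⁻¹) * kb'⁻¹) := by group
          _ = A p * B (x⁻¹ • p) * (ka * ((A (y⁻¹ • p))⁻¹ * (kb * (B p)⁻¹)) * (ka'⁻¹ * kb'⁻¹)) := by
            rw [c3, e1]; group
          _ = A p * B (x⁻¹ • p) * (A (y⁻¹ • p))⁻¹ * (B p)⁻¹ * (ka * (kb * ka'⁻¹) * kb'⁻¹) := by
            rw [c1, c3 (B p)⁻¹]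
            calc A p * B (x⁻¹ • p) * ((A (y⁻¹ • p))⁻¹ * ((B p)⁻¹ * kb) * ka * (ka'⁻¹ * kb'⁻¹))
                = A p * B (x⁻¹ • p) * (A (y⁻¹ • p))⁻¹ * (B p)⁻¹ * (kb * ka * ka'⁻¹ * kb'⁻¹) := by group
              _ = _ := by rw [c3 ka]; group
          _ = _ := by rw [c3 ka'⁻¹]; group
      _ = _ := by
        rw [h]
        group
  rw [Finset.prod_congr rfl fun p _ => hterm p, Finset.prod_mul_distrib, Finset.prod_mul_distrib,
    Finset.prod_mul_distrib, Finset.prod_mul_distrib, Finset.prod_inv_distrib, Finset.prod_inv_distrib,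
    Fintype.prod_equiv (MulAction.toPerm y⁻¹) (fun p => ι ⟨_, hga (y⁻¹ • p)⟩) (fun p => ι ⟨_, hga p⟩)
      (fun _ => rfl),
    Fintype.prod_equiv (MulAction.toPerm x⁻¹) (fun p => ι ⟨_, hgb (x⁻¹ • p)⟩) (fun p => ι ⟨_, hgb p⟩)
      (fun _ => rfl), mul_inv_cancel, mul_inv_cancel, mul_one, mul_one]

/-- A stabiliser with known cover bounds the kernel of a stem extension of coprime order. -/
theorem exists_hom_kernel {G : Type u} [Group G] [Finite G] (U : Subgroup G) {C : Type u} [Group C]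
    [Finite C] (θ : C →* U) (hθ : Function.Surjective θ) (hC : Cfsg.HasCyclicSchurMultiplier C 1)
    (hCp : _root_.commutator C = ⊤) {Γ : Type u} [Group Γ] [Finite Γ] (σ : Γ →* G)
    (hσ : Cfsg.IsStemExtension σ) (hcop : (Nat.card σ.ker).Coprime U.index) :
    ∃ lam : C →* Γ, (∀ c, σ (lam c) = θ c) ∧ σ.ker ≤ θ.ker.map lam := by
  classical
  let P : Subgroup Γ := U.comap σ
  let ξ : P →* U := (σ.comp P.subtype).codRestrict U fun z => z.2
  have hξ : Function.Surjective ξ := fun u => by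
    obtain ⟨z, hz⟩ := hσ.1 u
    exact ⟨⟨z, show σ z ∈ U by rw [hz]; exact u.2⟩, Subtype.ext hz⟩
  have hξc : ξ.ker ≤ center P := fun z hz => mem_center_iff.2 fun w => Subtype.ext
    (mem_center_iff.1 (hσ.2.1 (congrArg Subtype.val hz)) w)
  obtain ⟨f, hf⟩ := exists_lift (Q := C) ξ hξ hξc θ
  -- the free cover of a perfect group with trivial multiplier restricts to an isomorphism
  let pr : _root_.commutator (Cov C) →* C := (proj C).comp (_root_.commutator (Cov C)).subtype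
  have hprb : Function.Bijective pr := by
    refine ⟨(injective_iff_map_eq_one pr).2 fun z hz => Subtype.ext ?_, fun c => ?_⟩
    · have hzm : (z : Cov C) ∈ multiplier C := ⟨hz, z.2⟩
      rwa [hasCyclicSchurMultiplier_one_iff.1 hC, mem_bot] at hzm
    · have hc : c ∈ (_root_.commutator (Cov C)).map (proj C) := by
        rw [_root_.commutator_def, map_commutator, Subgroup.map_top_of_surjective _ (proj_surjective C),
          ← _root_.commutator_def, hCp]
        exact mem_top _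
      obtain ⟨z, hz, rfl⟩ := hc
      exact ⟨⟨z, hz⟩, rfl⟩
  let e : _root_.commutator (Cov C) ≃* C := MulEquiv.ofBijective pr hprb
  let lam₀ : C →* P := f.comp ((_root_.commutator (Cov C)).subtype.comp e.symm.toMonoidHom)
  have hlam : ξ.comp lam₀ = θ := MonoidHom.ext fun c => by
    show (ξ.comp f) (e.symm c : Cov C) = θ c
    rw [hf, MonoidHom.comp_apply]
    exact congrArg θ (e.apply_symm_apply c)
  refine ⟨P.subtype.comp lam₀, fun c => congrArg Subtype.val (DFunLike.congr_fun hlam c), ?_⟩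
  intro k hk
  have hkc : k ∈ center Γ := hσ.2.1 hk
  have hidx : P.index = U.index := Subgroup.index_comap_of_surjective _ hσ.1
  have h1 : MonoidHom.transfer (Abelianization.of : P →* _) k = 1 :=
    Abelianization.commutator_subset_ker _ (hσ.2.2 hk)
  haveI : P.FiniteIndex := inferInstance
  rw [MonoidHom.transfer_eq_pow _ k (fun n y _ => by
    rw [mul_assoc, ← (mem_center_iff.1 ((center Γ).pow_mem hkc n) y), inv_mul_cancel_left])] at h1
  have hkP : ∀ n : ℕ, k ^ n ∈ P := fun n => P.pow_mem (show σ k ∈ U by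
    rw [MonoidHom.mem_ker.1 hk]; exact one_mem U) n
  have h2 : (⟨k ^ P.index, hkP _⟩ : P) ∈ _root_.commutator P := by
    rw [← Abelianization.ker_of]; exact h1
  rw [commutator_eq_map ξ hξc lam₀ (by rw [hlam]; exact hθ), hCp] at h2
  obtain ⟨c, -, hc⟩ := h2
  obtain ⟨j, hj⟩ := exists_pow_eq_self_of_coprime (x := k) (n := P.index)
    (hidx ▸ (hcop.coprime_dvd_left (Subgroup.orderOf_coe (⟨k, hk⟩ : σ.ker) ▸
      orderOf_dvd_natCard _)).symm)
  have hcθ : c ∈ θ.ker := by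
    rw [MonoidHom.mem_ker]
    refine Subtype.ext ?_
    show ((θ c : U) : G) = 1
    rw [← hlam, MonoidHom.comp_apply, hc]
    show σ (k ^ P.index) = 1
    rw [map_pow, MonoidHom.mem_ker.1 hk, one_pow]
  refine ⟨c ^ j, θ.ker.pow_mem hcθ j, ?_⟩
  rw [map_pow, MonoidHom.comp_apply, hc]
  exact hj

/-- An element moved along fusion gives the same central commutator. -/
theorem map_eq_of_fusion {G : Type u} [Group G] {U : Subgroup G} {C : Type v} [Group C] (θ : C →* U)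
    {Γ : Type w} [Group Γ] (σ : Γ →* G) (hσ : Function.Surjective σ) (hc : σ.ker ≤ center Γ)
    (lam : C →* Γ) (hlam : ∀ c, σ (lam c) = θ c) {a b a' b' z z' : C} (hz : z ∈ θ.ker)
    (h : a * b = z * (b * a)) (h' : a' * b' = z' * (b' * a')) {g : G}
    (ha : g * (θ a' : G) = (θ a : G) * g) (hb : g * (θ b' : G) = (θ b : G) * g) :
    lam z' = lam z := by
  obtain ⟨γ, rfl⟩ := hσ g
  have key : ∀ (c c' : C), σ γ * (θ c' : G) = (θ c : G) * σ γ →
      γ⁻¹ * lam c * γ * (lam c')⁻¹ ∈ center Γ := fun c c' hcc => hc (by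
    rw [MonoidHom.mem_ker, map_mul, map_mul, map_mul, map_inv, map_inv, hlam, hlam,
      mul_assoc (σ γ)⁻¹, ← hcc, inv_mul_cancel_left, mul_inv_cancel])
  have ka := key a a' ha
  have kb := key b b' hb
  generalize hA : γ⁻¹ * lam a * γ * (lam a')⁻¹ = A at ka
  generalize hB : γ⁻¹ * lam b * γ * (lam b')⁻¹ = B at kb
  rw [mul_inv_eq_iff_eq_mul] at hA hB
  have e1 : ⁅γ⁻¹ * lam a * γ, γ⁻¹ * lam b * γ⁆ = ⁅lam a', lam b'⁆ := by
    rw [hA, hB]
    have cA : ∀ v, A * v = v * A := fun v => (mem_center_iff.1 ka v).symm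
    have cB : ∀ v, B * v = v * B := fun v => (mem_center_iff.1 kb v).symm
    calc ⁅A * lam a', B * lam b'⁆
        = A * (lam a' * (B * lam b') * (lam a')⁻¹) * A⁻¹ * ((lam b')⁻¹ * B⁻¹) := by
          rw [commutatorElement_def]; group
      _ = lam a' * (B * lam b') * (lam a')⁻¹ * (lam b')⁻¹ * B⁻¹ := by
          rw [cA, mul_inv_cancel_right]; group
      _ = B * (lam a' * lam b' * (lam a')⁻¹ * (lam b')⁻¹) * B⁻¹ := by
          rw [← mul_assoc (lam a') B, ← cB (lam a')]; group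
      _ = ⁅lam a', lam b'⁆ := by rw [cB, mul_inv_cancel_right, commutatorElement_def]
  have e2 : ⁅γ⁻¹ * lam a * γ, γ⁻¹ * lam b * γ⁆ = γ⁻¹ * ⁅lam a, lam b⁆ * γ := by
    rw [commutatorElement_def, commutatorElement_def]; group
  have hab : ⁅lam a, lam b⁆ = lam z := by
    rw [← map_commutatorElement, commutatorElement_def, h]
    group
  have hab' : ⁅lam a', lam b'⁆ = lam z' := by
    rw [← map_commutatorElement, commutatorElement_def, h']
    group
  have hzc : lam z ∈ center Γ := hc (by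
    rw [MonoidHom.mem_ker, hlam, MonoidHom.mem_ker.1 hz]; rfl)
  rw [← hab', ← e1, e2, hab, mem_center_iff.1 hzc, inv_mul_cancel_right]

end CfsgLib.KnownB.McLMult
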