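import Cfsg.Agent.Lib.KnownB.McLMult.Theta
import Cfsg.Agent.Lib.KnownB.McLMult.PairData
import Cfsg.Agent.Lib.KnownB.McLMult.Transfer

/-!
Fusion and transfer for pairs of commuting elements of McLaughlin's group.
-/

set_option autoImplicit false
set_option maxRecDepth 100000
set_option synthInstance.maxSize 4000
set_option maxHeartbeats 1000000
set_option Elab.async false

namespace CfsgLib.KnownB.McLMult

open Subgroup
open CfsgLib.KnownB.U4Mult
open CfsgLib.Spor.PermOut (getQ app InM permOf allN allN_iff)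
open CfsgLib.Spor.McLUnitary (K9)

attribute [local instance] fintypeK9

/-- permutations of a word in the stabiliser -/
def uCodes (w : List ℕ) : List ℕ := w.map fun k => genUQ.getD k 0

/-- the check of two fused pairs -/
noncomputable def fusOK (d : List ℕ × List ℕ × List ℕ × List ℕ × List ℕ) (z z' : ℕ × ℕ × ℕ) : Bool :=
  wordOK d.1 && wordOK d.2.1 && wordOK d.2.2.1 && wordOK d.2.2.2.1 &&
    (d.2.2.2.2.all fun k => Nat.blt k baseQ.length) &&
    eq4 (mulC4 (evC4 d.1) (evC4 d.2.1)) (mulC4 (zC z) (mulC4 (evC4 d.2.1) (evC4 d.1))) &&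
    eq4 (mulC4 (evC4 d.2.2.1) (evC4 d.2.2.2.1)) (mulC4 (zC z') (mulC4 (evC4 d.2.2.2.1) (evC4 d.2.2.1))) &&
    let r := d.2.2.2.2.map fun k => baseQ.getD k 0
    allN 275 fun x =>
      Nat.beq (app r (app (uCodes d.2.2.1) x)) (app (uCodes d.1) (app r x)) &&
      Nat.beq (app r (app (uCodes d.2.2.2.1) x)) (app (uCodes d.2.1) (app r x))

theorem fusS_ok : fusOK fusS (0, 0, 0) (1, 0, 0) = true := by decide +kernel

theorem fusL_ok : fusOK fusL (0, 2, 2) (0, 0, 0) = true := by decide +kernel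

theorem genUQ_length : genUQ.length = 9 := by decide +kernel

theorem wordOK_all {w : List ℕ} (h : wordOK w = true) : (w.all fun k => Nat.blt k genUQ.length) = true := by
  rw [genUQ_length]; exact h

/-- the permutation of a word on a point -/
theorem theta_cw_apply {w : List ℕ} (h : wordOK w = true) (i : Fin 275) :
    (((((theta (cw w) : UM) : Mc) : Equiv.Perm (Fin 275)) i : Fin 275) : ℕ) = app (uCodes w) i := by
  rw [theta_cw h]
  exact (mem_of_wordP genUQ_mem (wordOK_all h)).2 i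

theorem lam_of_fusion {Γ : Type} [Group Γ] (σ : Γ →* Mc) (hσ : Function.Surjective σ)
    (hc : σ.ker ≤ center Γ) (lam : CV →* Γ) (hlam : ∀ c, σ (lam c) = theta c)
    {d : List ℕ × List ℕ × List ℕ × List ℕ × List ℕ} {z z' : ℕ × ℕ × ℕ} (h : fusOK d z z' = true) :
    lam (zEl z') = lam (zEl z) := by
  simp only [fusOK, Bool.and_eq_true] at h
  obtain ⟨⟨⟨⟨⟨⟨⟨h1, h2⟩, h3⟩, h4⟩, h5⟩, h6⟩, h7⟩, h8⟩ := h
  rw [allN_iff] at h8
  obtain ⟨hr1, hr2⟩ := mem_of_wordP baseQ_mem h5
  refine map_eq_of_fusion theta σ hσ hc lam hlam (theta_zEl z)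
    ((eq4_iff ((rep_cw h1).mul (rep_cw h2)) ((rep_zEl z).mul ((rep_cw h2).mul (rep_cw h1)))).1 h6)
    ((eq4_iff ((rep_cw h3).mul (rep_cw h4)) ((rep_zEl z').mul ((rep_cw h4).mul (rep_cw h3)))).1 h7)
    (g := (⟨_, hr1⟩ : Mc)) ?_ ?_
  · refine Subtype.ext (Equiv.ext fun i => Fin.ext ?_)
    simp only [Subgroup.coe_mul, Equiv.Perm.mul_apply]
    rw [hr2, theta_cw_apply h3, theta_cw_apply h1, hr2]
    have := h8 i i.2
    simp only [Bool.and_eq_true, Nat.beq_eq] at this
    exact this.1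
  · refine Subtype.ext (Equiv.ext fun i => Fin.ext ?_)
    simp only [Subgroup.coe_mul, Equiv.Perm.mul_apply]
    rw [hr2, theta_cw_apply h4, theta_cw_apply h2, hr2]
    have := h8 i i.2
    simp only [Bool.and_eq_true, Nat.beq_eq] at this
    exact this.2

/-- the words of the lifts -/
def uWord (a : ℕ) : List ℕ := uW.getD a []

theorem uW_ok : ((List.range uW.length).all fun a =>
    wordOK (uWord a) && spells genUQ (uQ.getD a 0) (uWord a) &&
      eq4 (evC4 (uWord a)) (uC.getD a one4)) = true := by decide +kernel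

theorem idx_ok : ((List.range 275).all fun p =>
    Nat.blt (uA.getD p 0) uW.length && Nat.blt (uB.getD p 0) uW.length &&
      Nat.blt (xiP.getD p 0) 275 && Nat.blt (yiP.getD p 0) 275 &&
      Nat.beq (getQ xQ (xiP.getD p 0)) p && Nat.beq (getQ yQ (yiP.getD p 0)) p) = true := by
  decide +kernel

theorem xy_comm : (allN 275 fun x => Nat.beq (app [xQ, yQ] x) (app [yQ, xQ] x)) = true := by decide +kernel

theorem xy_words : (wordOK xW && wordOK yW) = true := by decide +kernel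

/-- the equations of the first lifts at a point -/
def liftA (p : ℕ) : Bool :=
  allN 275 fun x => Nat.beq (app [rQ p, uQ.getD (uA.getD p 0) 0] x) (app [xQ, rQ (xiP.getD p 0)] x)

/-- the equations of the second lifts at a point -/
def liftB (p : ℕ) : Bool :=
  allN 275 fun x => Nat.beq (app [rQ p, uQ.getD (uB.getD p 0) 0] x) (app [yQ, rQ (yiP.getD p 0)] x)

theorem liftA_ok : ((List.range 275).all liftA) = true := by decide +kernel

theorem liftB_ok : ((List.range 275).all liftB) = true := by decide +kernel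

/-- a product of two lifts against the opposite product -/
noncomputable def quadOK (e : ℕ × ℕ × ℕ × ℕ × ℕ × ℕ) : Bool :=
  eq4 (mulC4 (uC.getD e.1 one4) (uC.getD e.2.1 one4))
    (mulC4 ⟨oneN, ⟨G2Mult.oneM, e.2.2.2.2.1 % 3⟩, ⟨G2Mult.oneM, e.2.2.2.2.2 % 3⟩⟩
      (mulC4 (uC.getD e.2.2.2.1 one4) (uC.getD e.2.2.1 one4)))

theorem quad_ok : quadL.all quadOK = true := by decide +kernel

/-- the factors at a point -/
def quadAt (p : ℕ) : ℕ × ℕ × ℕ × ℕ × ℕ × ℕ := quadL.getD (quadI.getD p 0) (0, 0, 0, 0, 0, 0)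

theorem quadI_ok : ((List.range 275).all fun p =>
    let e := quadAt p
    Nat.blt (quadI.getD p 0) quadL.length && Nat.beq e.1 (uA.getD p 0) &&
      Nat.beq e.2.1 (uB.getD (xiP.getD p 0) 0) && Nat.beq e.2.2.1 (uA.getD (yiP.getD p 0) 0) &&
      Nat.beq e.2.2.2.1 (uB.getD p 0)) = true := by decide +kernel

/-- the central value at a point -/
def valZ (p : Fin 275) : ZMod 3 × ZMod 3 :=
  (((quadAt p).2.2.2.2.1 : ZMod 3), ((quadAt p).2.2.2.2.2 : ZMod 3))

theorem val_sum : ((List.finRange 275).map valZ).sum = (2, 1) := by decide +kernel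

theorem mult_nontrivial : ∃ m : Schur.Mult Mc, orderOf m % 3 = 0 := by
  have hxy := xy_words
  rw [Bool.and_eq_true] at hxy
  have hq := xy_ok
  rw [Bool.and_eq_true] at hq
  let x : Mc := ((theta (cw xW) : UM) : Mc)
  let y : Mc := ((theta (cw yW) : UM) : Mc)
  have hx : ∀ i : Fin 275, ((x • i : Fin 275) : ℕ) = getQ xQ i := fun i => by
    show ((((theta (cw xW) : UM) : Mc) : Equiv.Perm (Fin 275)) i : ℕ) = _
    rw [theta_cw hxy.1, ← (spells_spec genUQ_mem hq.1).2, (spells_spec genUQ_mem hq.1).1.rep]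
  have hy : ∀ i : Fin 275, ((y • i : Fin 275) : ℕ) = getQ yQ i := fun i => by
    show ((((theta (cw yW) : UM) : Mc) : Equiv.Perm (Fin 275)) i : ℕ) = _
    rw [theta_cw hxy.2, ← (spells_spec genUQ_mem hq.2).2, (spells_spec genUQ_mem hq.2).1.rep]
  have hcm : x * y = y * x := by
    refine Subtype.ext (Equiv.ext fun i => Fin.ext ?_)
    show ((x • (y • i) : Fin 275) : ℕ) = ((y • (x • i) : Fin 275) : ℕ)
    rw [hx, hy, hy, hx]
    exact Nat.eq_of_beq_eq_true (allN_iff.1 xy_comm i i.2)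
  have hidx : ∀ p : Fin 275, (uA.getD p 0 < uW.length ∧ uB.getD p 0 < uW.length) ∧
      (((x⁻¹ • p : Fin 275) : ℕ) = xiP.getD p 0 ∧ ((y⁻¹ • p : Fin 275) : ℕ) = yiP.getD p 0) := by
    intro p
    have h := List.all_eq_true.1 idx_ok p (List.mem_range.2 p.2)
    simp only [Bool.and_eq_true, Nat.blt_eq, Nat.beq_eq] at h
    obtain ⟨⟨⟨⟨⟨a, b⟩, c⟩, d⟩, e⟩, f⟩ := h
    refine ⟨⟨a, b⟩, ?_, ?_⟩
    · have : x⁻¹ • p = ⟨_, c⟩ := inv_smul_eq_iff.2 (Fin.ext ((hx ⟨_, c⟩).trans e).symm)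
      rw [this]
    · have : y⁻¹ • p = ⟨_, d⟩ := inv_smul_eq_iff.2 (Fin.ext ((hy ⟨_, d⟩).trans f).symm)
      rw [this]
  have hu : ∀ a < uW.length, U4Mult.Rep φ0 (cw (uWord a)) (uC.getD a one4) ∧
      InM Mc (uQ.getD a 0) ∧
      (((theta (cw (uWord a)) : UM) : Mc) : Equiv.Perm (Fin 275)) = permOf 275 (uQ.getD a 0) := by
    intro a ha
    have h := List.all_eq_true.1 uW_ok a (List.mem_range.2 ha)
    simp only [Bool.and_eq_true] at h
    exact ⟨(rep_cw h.1.1).of_eq4 h.2, (spells_spec genUQ_mem h.1.2).1,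
      (theta_cw h.1.1).trans (spells_spec genUQ_mem h.1.2).2.symm⟩
  letI : CommGroup theta.ker :=
    { (inferInstance : Group theta.ker) with
      mul_comm := fun a b => Subtype.ext (mem_center_iff.1 (theta_ker_central b.2) a) }
  let kzK : Multiplicative (ZMod 3 × ZMod 3) →* theta.ker :=
    (kz φ0).codRestrict theta.ker fun c => theta_kz c
  obtain ⟨Φ, m, hm⟩ := exists_transfer (G := Mc) (0 : Fin 275) theta theta_surjective theta_ker_central
    hcm rM rM_smul (fun p => cw (uWord (uA.getD p 0))) (fun p => cw (uWord (uB.getD p 0)))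
    (fun p => by
      rw [mul_assoc, eq_inv_mul_iff_mul_eq]
      refine Subtype.ext (Equiv.ext fun i => Fin.ext ?_)
      show (((rM p : Mc) : Equiv.Perm (Fin 275)) ((((theta _ : UM) : Mc) : Equiv.Perm (Fin 275)) i) : ℕ) =
        ((x • (rM (x⁻¹ • p) • i) : Fin 275) : ℕ)
      rw [(hu _ (hidx p).1.1).2.2, show ((rM p : Mc) : Equiv.Perm (Fin 275)) = permOf 275 (rQ p) from rfl,
        (rQ_spec p).1.rep, (hu _ (hidx p).1.1).2.1.rep, hx,
        show ((rM (x⁻¹ • p) • i : Fin 275) : ℕ) = getQ (rQ ((x⁻¹ • p : Fin 275) : ℕ)) i from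
          (rQ_spec _).1.rep i, (hidx p).2.1]
      exact Nat.eq_of_beq_eq_true
        (allN_iff.1 (List.all_eq_true.1 liftA_ok p (List.mem_range.2 p.2)) i i.2))
    (fun p => by
      rw [mul_assoc, eq_inv_mul_iff_mul_eq]
      refine Subtype.ext (Equiv.ext fun i => Fin.ext ?_)
      show (((rM p : Mc) : Equiv.Perm (Fin 275)) ((((theta _ : UM) : Mc) : Equiv.Perm (Fin 275)) i) : ℕ) =
        ((y • (rM (y⁻¹ • p) • i) : Fin 275) : ℕ)
      rw [(hu _ (hidx p).1.2).2.2, show ((rM p : Mc) : Equiv.Perm (Fin 275)) = permOf 275 (rQ p) from rfl,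
        (rQ_spec p).1.rep, (hu _ (hidx p).1.2).2.1.rep, hy,
        show ((rM (y⁻¹ • p) • i : Fin 275) : ℕ) = getQ (rQ ((y⁻¹ • p : Fin 275) : ℕ)) i from
          (rQ_spec _).1.rep i, (hidx p).2.2]
      exact Nat.eq_of_beq_eq_true
        (allN_iff.1 (List.all_eq_true.1 liftB_ok p (List.mem_range.2 p.2)) i i.2))
    theta.ker (MonoidHom.id _) (fun p => kzK (Multiplicative.ofAdd (valZ p))) (fun p => by
      refine ⟨_, rfl, ?_⟩
      have h := List.all_eq_true.1 quadI_ok p (List.mem_range.2 p.2)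
      simp only [Bool.and_eq_true, Nat.blt_eq, Nat.beq_eq] at h
      obtain ⟨⟨⟨⟨h0, h1⟩, h2⟩, h3⟩, h4⟩ := h
      have hq : quadOK (quadAt p) = true := by
        refine List.all_eq_true.1 quad_ok _ ?_
        rw [quadAt, List.getD_eq_getElem _ _ h0]
        exact List.getElem_mem _
      rw [quadOK, h1, h2, h3, h4] at hq
      have hk := rep_kz (F := K9) φ0 ((quadAt p).2.2.2.2.1 : ZMod 3) ((quadAt p).2.2.2.2.2 : ZMod 3)
      rw [ZMod.val_natCast, ZMod.val_natCast] at hk
      rw [(hidx p).2.1, (hidx p).2.2]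
      refine (eq4_iff ((hu _ (hidx p).1.1).1.mul (hu _ ?_).1)
        (hk.mul ((hu _ (hidx p).1.2).1.mul (hu _ ?_).1))).1 hq
      · rw [← (hidx p).2.1]; exact (hidx _).1.2
      · rw [← (hidx p).2.2]; exact (hidx _).1.1)
  refine ⟨m, ?_⟩
  have hsum : ∑ p, valZ p = ((2, 1) : ZMod 3 × ZMod 3) := by
    rw [← List.toFinset_finRange 275, List.sum_toFinset valZ (List.nodup_finRange 275)]
    exact val_sum
  rw [← map_prod, ← ofAdd_sum, hsum] at hm
  have ho : orderOf (Φ m) = 3 := by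
    rw [hm, ← Subgroup.orderOf_coe]
    show orderOf (kz φ0 _) = 3
    rw [orderOf_injective (kz φ0) (kz_injective φ0)]
    exact orderOf_eq_prime (by decide +kernel) (by decide +kernel)
  exact Nat.mod_eq_zero_of_dvd (ho ▸ orderOf_map_dvd Φ m)

end CfsgLib.KnownB.McLMult
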