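import Cfsg.Agent.Lib.KnownB.McLMult.Lines
import Cfsg.Agent.Lib.KnownB.McLMult.Model
import Cfsg.Agent.Lib.Spor.McLUnitary.Perm

/-!
The covering map from the cover of `SU₄(3)` onto the point stabiliser.
-/

set_option autoImplicit false
set_option maxRecDepth 100000
set_option synthInstance.maxSize 4000
set_option maxHeartbeats 1000000
set_option Elab.async false

namespace CfsgLib.KnownB.McLMult

open Subgroup
open CfsgLib.KnownB.U4Mult
open CfsgLib.Spor.PermOut (getQ app InM permOf allN allN_iff)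
open CfsgLib.Spor.HSUnitary (equivarSub equivarHom equivarHom_eq)
open CfsgLib.Spor.McLUnitary (K9 permA permB pA pB pA_val pB_val model le_card_model toK toK_injective iK)

attribute [local instance] fintypeK9

theorem genU_fix : ((List.range 9).all fun k => Nat.beq (getQ (genUQ.getD k 0) 0) 0) = true := by
  decide +kernel

/-- a generator of the stabiliser -/
noncomputable def genU (k : Fin 9) : UM :=
  ⟨⟨permOf 275 (genUQ.getD k 0), (genUQ_mem _ (by
      rw [List.getD_eq_getElem _ _ ((show genUQ.length = 9 by decide +kernel).symm ▸ k.2)]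
      exact List.getElem_mem _)).mem⟩,
    Fin.ext (((genUQ_mem _ (by
      rw [List.getD_eq_getElem _ _ ((show genUQ.length = 9 by decide +kernel).symm ▸ k.2)]
      exact List.getElem_mem _)).rep 0).trans
      (Nat.eq_of_beq_eq_true (List.all_eq_true.1 genU_fix k (List.mem_range.2 k.2))))⟩

theorem orb_ok : ((orbQ.length == 112) && (orbQ.all fun a => Nat.blt a 275) && decide orbQ.Nodup &&
    ((List.range 9).all fun k => (List.range 112).all fun i =>
      Nat.beq (getQ (genUQ.getD k 0) (orbQ.getD i 0)) (orbQ.getD ((pgQ.getD k []).getD i 0) 0))) = true := by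
  decide +kernel

/-- the points of the orbit of length 112 -/
noncomputable def orbF (i : Fin 112) : Fin 275 := Fin.ofNat 275 (orbQ.getD i 0)

theorem orbF_val : ∀ i : Fin 112, (orbF i : ℕ) = orbQ.getD i 0 := by decide +kernel

theorem orbF_inj : Function.Injective orbF := by
  intro i j h
  have h' := orb_ok
  simp only [Bool.and_eq_true, beq_iff_eq, decide_eq_true_eq] at h'
  have e := congrArg Fin.val h
  rw [orbF_val, orbF_val, List.getD_eq_getElem _ _ (by rw [h'.1.1.1]; exact i.2),
    List.getD_eq_getElem _ _ (by rw [h'.1.1.1]; exact j.2)] at e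
  exact Fin.ext (h'.1.2.getElem_inj_iff.1 e)

theorem genU_orb (k : Fin 9) (i : Fin 112) : genU k • orbF i = orbF (pgP k i) := by
  have h' := orb_ok
  simp only [Bool.and_eq_true, List.all_eq_true, List.mem_range, Nat.beq_eq] at h'
  refine Fin.ext ?_
  show ((permOf 275 (genUQ.getD k 0) (orbF i) : Fin 275) : ℕ) = _
  rw [(genUQ_mem _ (by
      rw [List.getD_eq_getElem _ _ ((show genUQ.length = 9 by decide +kernel).symm ▸ k.2)]
      exact List.getElem_mem _)).rep, orbF_val, orbF_val, h'.2 k k.2 i i.2]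
  have hj := List.all_eq_true.1 (List.all_eq_true.1 line_ok k (List.mem_range.2 k.2)) i (List.mem_range.2 i.2)
  simp only [lineOK, Bool.and_eq_true, Nat.blt_eq] at hj
  rw [show ((pgP k i : Fin 112) : ℕ) = _ from Nat.mod_eq_of_lt hj.1.1]

/-- the word gives the first permutation on the lines -/
def foldPg (w : List ℕ) (i : ℕ) : ℕ := w.foldr (fun k j => (pgQ.getD k []).getD j 0) i

theorem model_words : (((List.range 112).all fun i =>
    Nat.beq (foldPg wAU i) (permA.getD i 0) && Nat.beq (foldPg wBU i) (permB.getD i 0)) &&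
    wordOK wAU && wordOK wBU) = true := by decide +kernel

theorem exists_theta : ∃ θ : CV →* UM, Function.Surjective θ ∧ (∀ k : Fin 9, θ (gen k) = genU k) ∧
    θ sEl = 1 ∧ (∀ c, θ (kz φ0 c) = 1) := by
  classical
  have hρ : Function.Injective (MonoidHom.id (Equiv.Perm (Fin 112))) := fun a b h => h
  let H : Subgroup UM := closure (Set.range genU)
  have hH : H ≤ equivarSub orbF (MonoidHom.id (Equiv.Perm (Fin 112))) := by
    rw [closure_le]
    rintro _ ⟨k, rfl⟩
    exact ⟨Equiv.ofBijective _ (pgP_bij k), fun i => genU_orb k i⟩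
  let χ : H →* Equiv.Perm (Fin 112) := equivarHom orbF_inj hρ H hH
  obtain ⟨ψ, hψ, hs, hz⟩ := exists_lineHom
  have hgen : ∀ k : Fin 9, χ ⟨genU k, subset_closure ⟨k, rfl⟩⟩ = ψ (gen k) := fun k =>
    equivarHom_eq orbF_inj hρ H hH fun i => (genU_orb k i).trans (congrArg orbF (hψ k k.2 i).symm)
  have hrange : ψ.range ≤ χ.range := by
    rintro _ ⟨e, rfl⟩
    have he : e ∈ closure (Set.range gen) := closure_gen.symm ▸ mem_top e
    induction he using closure_induction with
    | mem x hx =>
      obtain ⟨k, rfl⟩ := hx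
      by_cases hk : k < 9
      · exact ⟨_, hgen ⟨k, hk⟩⟩
      · rw [gen, dif_neg hk, map_one]; exact one_mem _
    | one => rw [map_one]; exact one_mem _
    | mul x y _ _ hx hy => rw [map_mul]; exact mul_mem hx hy
    | inv x _ hx => rw [map_inv]; exact inv_mem hx
  have hm := model_words
  simp only [Bool.and_eq_true, List.all_eq_true, List.mem_range, Nat.beq_eq] at hm
  have hword : ∀ (w : List ℕ), wordOK w = true → ∀ i : Fin 112, ((ψ (cw w) i : Fin 112) : ℕ) = foldPg w i := by
    intro w
    induction w with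
    | nil => intro _ i; rw [show cw [] = 1 from rfl, map_one]; rfl
    | cons k w ih =>
      intro h i
      simp only [wordOK, List.all_cons, Bool.and_eq_true, Nat.blt_eq] at h
      rw [show cw (k :: w) = gen k * cw w from rfl, map_mul, Equiv.Perm.mul_apply, hψ k h.1]
      have hj := List.all_eq_true.1 (List.all_eq_true.1 line_ok k (List.mem_range.2 h.1)) _
        (List.mem_range.2 (ψ (cw w) i).2)
      simp only [lineOK, Bool.and_eq_true, Nat.blt_eq] at hj
      rw [show ((pgP k (ψ (cw w) i) : Fin 112) : ℕ) = _ from Nat.mod_eq_of_lt hj.1.1, ih h.2 i]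
      rfl
  have hmodel : model ≤ ψ.range := by
    rw [closure_le]
    rintro p (rfl | rfl)
    · exact ⟨cw wAU, Equiv.ext fun i => Fin.ext ((hword _ hm.1.2 i).trans ((hm.1.1 i i.2).1.trans (pA_val i).symm))⟩
    · exact ⟨cw wBU, Equiv.ext fun i => Fin.ext ((hword _ hm.2 i).trans ((hm.1.1 i i.2).2.trans (pB_val i).symm))⟩
  have e1 : 3265920 ≤ Nat.card ψ.range := le_card_model.trans (Subgroup.card_le_of_le hmodel)
  have e2 : Nat.card ψ.range ≤ Nat.card χ.range := Subgroup.card_le_of_le hrange
  have e3 : Nat.card χ.range ≤ Nat.card H :=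
    Nat.card_le_card_of_surjective χ.rangeRestrict χ.rangeRestrict_surjective
  have e4 : Nat.card H ≤ Nat.card UM := Subgroup.card_le_card_group H
  rw [natCard_UM] at e4
  have hbij : Function.Bijective χ.rangeRestrict :=
    Function.Surjective.bijective_of_nat_card_le χ.rangeRestrict_surjective (by omega)
  have heq : ψ.range = χ.range := Subgroup.eq_of_le_of_card_ge hrange (by omega)
  have hHtop : H = ⊤ := Subgroup.eq_top_of_card_eq H (by rw [natCard_UM]; omega)
  let ψ' : CV →* χ.range := ψ.codRestrict χ.range fun e => hrange ⟨e, rfl⟩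
  let θ : CV →* UM := H.subtype.comp ((MulEquiv.ofBijective _ hbij).symm.toMonoidHom.comp ψ')
  have h1 : ∀ e, ψ e = 1 → θ e = 1 := fun e he => by
    have : ψ' e = 1 := Subtype.ext he
    show H.subtype ((MulEquiv.ofBijective _ hbij).symm (ψ' e)) = 1
    rw [this, map_one, map_one]
  refine ⟨θ, fun u => ?_, fun k => ?_, h1 _ hs, fun c => h1 _ (hz c)⟩
  · obtain ⟨e, he⟩ := heq.ge ⟨⟨u, hHtop ▸ mem_top u⟩, rfl⟩
    refine ⟨e, ?_⟩
    have : ψ' e = MulEquiv.ofBijective _ hbij ⟨u, hHtop ▸ mem_top u⟩ := Subtype.ext he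
    show H.subtype ((MulEquiv.ofBijective _ hbij).symm (ψ' e)) = u
    rw [this, MulEquiv.symm_apply_apply]
    rfl
  · have : ψ' (gen k) = MulEquiv.ofBijective _ hbij ⟨genU k, subset_closure ⟨k, rfl⟩⟩ :=
      Subtype.ext (hgen k).symm
    show H.subtype ((MulEquiv.ofBijective _ hbij).symm (ψ' (gen k))) = genU k
    rw [this, MulEquiv.symm_apply_apply]
    rfl

/-- the covering map -/
noncomputable def theta : CV →* UM := exists_theta.choose

theorem theta_surjective : Function.Surjective theta := exists_theta.choose_spec.1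

theorem theta_gen (k : Fin 9) : theta (gen k) = genU k := exists_theta.choose_spec.2.1 k

theorem theta_sEl : theta sEl = 1 := exists_theta.choose_spec.2.2.1

theorem theta_kz (c : Multiplicative (ZMod 3 × ZMod 3)) : theta (kz φ0 c) = 1 := exists_theta.choose_spec.2.2.2 c

theorem natCard_ker_theta : Nat.card theta.ker = 36 := by
  have h := theta.ker.card_mul_index
  rw [Subgroup.index_ker, MonoidHom.range_eq_top.2 theta_surjective,
    Nat.card_congr Subgroup.topEquiv.toEquiv, natCard_UM, natCard_Cv card_K9] at h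
  exact Nat.eq_of_mul_eq_mul_right (by norm_num : 0 < 3265920) (h.trans (by norm_num))

theorem theta_zEl (z : ℕ × ℕ × ℕ) : theta (zEl z) = 1 := by
  rw [zEl, map_mul, map_pow, theta_sEl, one_pow, one_mul]
  exact theta_kz _

theorem toK_sEl_pow (n : ℕ) : toK φ0 (proj φ0 (sEl ^ n)) = iK ^ n • 1 := by
  rw [map_pow, map_pow, toK_sEl, smul_pow, one_pow]

theorem exists_zEl_of_mem {e : CV} (he : e ∈ theta.ker) :
    ∃ j : Fin 4 × Fin 3 × Fin 3, e = zEl ((j.1 : ℕ), (j.2.1 : ℕ), (j.2.2 : ℕ)) := by
  classical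
  let F : Fin 4 × Fin 3 × Fin 3 → theta.ker := fun j => ⟨_, theta_zEl ((j.1 : ℕ), (j.2.1 : ℕ), (j.2.2 : ℕ))⟩
  have hF : Function.Injective F := by
    rintro ⟨a, c, d⟩ ⟨a', c', d'⟩ h
    have h' : sEl ^ (a : ℕ) * kz φ0 _ = sEl ^ (a' : ℕ) * kz φ0 _ := congrArg Subtype.val h
    have hp := congrArg (fun x => toK φ0 (proj φ0 x)) h'
    simp only [map_mul (proj φ0), show ∀ t, proj φ0 (kz φ0 t) = 1 from fun t => rfl, mul_one, toK_sEl_pow] at hp
    have hi : iK ^ (a : ℕ) = iK ^ (a' : ℕ) := by simpa using congrFun (congrFun hp 0) 0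
    have ha : a = a' := (by decide +kernel : ∀ a a' : Fin 4, iK ^ (a : ℕ) = iK ^ (a' : ℕ) → a = a') a a' hi
    subst ha
    have hk := Multiplicative.ofAdd.injective (kz_injective φ0 (mul_left_cancel h'))
    have hcd := (by decide +kernel : ∀ c c' : Fin 3, ((c : ℕ) : ZMod 3) = ((c' : ℕ) : ZMod 3) → c = c')
    obtain ⟨hc, hd⟩ := Prod.ext_iff.1 hk
    rw [hcd c c' hc, hcd d d' hd]
  have hb := (Nat.bijective_iff_injective_and_card F).2 ⟨hF, by
    rw [natCard_ker_theta, Nat.card_prod, Nat.card_prod, Nat.card_fin, Nat.card_fin]⟩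
  obtain ⟨j, hj⟩ := hb.2 ⟨e, he⟩
  exact ⟨j, (congrArg Subtype.val hj).symm⟩

theorem theta_ker_central : theta.ker ≤ center CV := by
  intro e he
  obtain ⟨j, rfl⟩ := exists_zEl_of_mem he
  refine mul_mem (Subgroup.pow_mem _ ?_ _) (ker_central φ0 (mem_ker_iff.2 ⟨_, rfl⟩))
  refine U4Mult.mem_center_of_map (σ := proj φ0) (perfect card_K9 φ0) (ker_central φ0) ?_
  rw [mem_center_iff]
  intro g
  apply toK_injective φ0
  rw [map_mul, map_mul, toK_sEl]
  simp

/-- the image of a word on the 275 points -/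
theorem theta_cw : ∀ {w : List ℕ}, wordOK w = true →
    (((theta (cw w) : UM) : Mc) : Equiv.Perm (Fin 275)) = wordP genUQ w
  | [], _ => by rw [show cw [] = 1 from rfl, map_one]; rfl
  | k :: w, h => by
    simp only [wordOK, List.all_cons, Bool.and_eq_true, Nat.blt_eq] at h
    rw [show cw (k :: w) = gen k * cw w from rfl, map_mul, show theta (gen k) = _ from theta_gen ⟨k, h.1⟩,
      show wordP genUQ (k :: w) = permOf 275 (genUQ.getD k 0) * wordP genUQ w from rfl, ← theta_cw h.2]
    rfl

end CfsgLib.KnownB.McLMult
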